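import Groth.Agent.H9Misc.TensorLinear
import Groth.Agent.ModTensor.KFlat
import Groth.Agent.KExact.Psi
import Groth.Agent.KExact.Opcycles
import Mathlib.Algebra.Homology.HomologySequence
import Mathlib.CategoryTheory.Limits.Constructions.EpiMono

/-!
# One-sided exactness of `M ↦ H^p(M ⊗^L E)` on a ringed site
-/

set_option autoImplicit false
set_option linter.style.haveILetI false
set_option backward.isDefEq.respectTransparency false
set_option backward.isDefEq.respectTransparency.types false

universe u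

open CategoryTheory CategoryTheory.Limits

attribute [local instance] HasDerivedCategory.standard

namespace Groth.Agent.SiteSided

open ModTensor

variable {C : Type u} [SmallCategory C] {J : GrothendieckTopology C} {O : Sheaf J CommRingCat.{u}}

/-- `M ↦ M ⊗ R`, termwise. -/
noncomputable def ten (R : CochainComplex (ModSite.Mod O) ℤ) :
    ModSite.Mod O ⥤ CochainComplex (ModSite.Mod O) ℤ where
  obj G := (((ModSite.tensorBi O).flip.obj G).mapHomologicalComplex (ComplexShape.up ℤ)).obj R
  map g := (NatTrans.mapHomologicalComplex ((ModSite.tensorBi O).flip.map g) (ComplexShape.up ℤ)).app R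
  map_id G := by
    refine HomologicalComplex.hom_ext _ _ fun n => ?_
    exact ((ModSite.tensorBi O).obj (R.X n)).map_id G
  map_comp g g' := by
    refine HomologicalComplex.hom_ext _ _ fun n => ?_
    exact ((ModSite.tensorBi O).obj (R.X n)).map_comp g g'

instance additive_ten (R : CochainComplex (ModSite.Mod O) ℤ) : (ten R).Additive where
  map_add {G G' g g'} := by
    refine HomologicalComplex.hom_ext _ _ fun n => ?_
    exact ((ModSite.tensorBi O).obj (R.X n)).map_add

/-- `M ↦ H^p(M ⊗ R)`. -/
noncomputable def psi (R : CochainComplex (ModSite.Mod O) ℤ) (p : ℤ) :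
    ModSite.Mod O ⥤ ModSite.Mod O :=
  ten R ⋙ HomologicalComplex.homologyFunctor (ModSite.Mod O) (ComplexShape.up ℤ) p

instance additive_psi (R : CochainComplex (ModSite.Mod O) ℤ) (p : ℤ) : (psi R p).Additive := by
  unfold psi; infer_instance

/-- `M[0] ⊗ R` is `M ⊗ R`. -/
noncomputable def tenSingleIso (R : CochainComplex (ModSite.Mod O) ℤ) :
    HomologicalComplex.single (ModSite.Mod O) (ComplexShape.up ℤ) 0 ⋙ (ModSite.tensorCx O).flip.obj R ≅
      ten R :=
  Functor.isoWhiskerLeft _ (KFlatLib.symmIso (tensorFlipIso O) R) ≪≫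
    NatIso.ofComponents (fun G => (KFlatLib.singleIso (ModSite.tensorBi O) G).app R)
      (fun g => KExact.singleIso_naturality (ModSite.tensorBi O) R g)

/-- Tensoring with a K-flat complex preserves quasi-isomorphisms. -/
lemma quasiIso_flip_map {R : CochainComplex (ModSite.Mod O) ℤ} (hR : ModSite.IsKFlat R)
    {A B : CochainComplex (ModSite.Mod O) ℤ} (f : A ⟶ B) [QuasiIso f] :
    QuasiIso (((ModSite.tensorCx O).flip.obj R).map f) :=
  KFlatLib.KFlat.quasiIso_map (kFlat_iff_isKFlat.2 hR) f

/-- Tensoring a K-flat complex with a quasi-isomorphism gives a quasi-isomorphism. -/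
lemma quasiIso_map {R : CochainComplex (ModSite.Mod O) ℤ} (hR : ModSite.IsKFlat R)
    {A B : CochainComplex (ModSite.Mod O) ℤ} (f : A ⟶ B) [QuasiIso f] :
    QuasiIso (((ModSite.tensorCx O).obj R).map f) :=
  KFlatLib.KFlat.quasiIso_map' (tensorFlipIso O) (kFlat_iff_isKFlat.2 hR) f

/-- `M ↦ H^p(M ⊗^L E)` is computed by any K-flat complex quasi-isomorphic to `E`. -/
theorem nonempty_psiIso {E R : CochainComplex (ModSite.Mod O) ℤ} [ModSite.HasLTensorCx E]
    (q : R ⟶ E) [QuasiIso q] (hR : ModSite.IsKFlat R) (p : ℤ) :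
    Nonempty (DerivedCategory.singleFunctor (ModSite.Mod O) 0 ⋙ ModSite.LTensorCx E ⋙
      DerivedCategory.homologyFunctor (ModSite.Mod O) p ≅ psi R p) := by
  let P := (flatCover O).P
  let ψ := (flatCover O).ψ
  let ε := (ModSite.tensorCxQ E).totalLeftDerivedCounit DerivedCategory.Q
    (HomologicalComplex.quasiIso (ModSite.Mod O) (ComplexShape.up ℤ))
  have hP : ∀ K, ModSite.IsKFlat (P.obj K) := fun K =>
    kFlat_iff_isKFlat.1 ((flatCover O).kFlat_P flatObj_flatCover K)
  have hψ : ∀ K, QuasiIso (ψ.app K) := fun K => (flatCover O).quasiIso_ψ K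
  let a : P ⋙ DerivedCategory.Q ⟶ DerivedCategory.Q :=
    Functor.whiskerRight ψ DerivedCategory.Q ≫ (Functor.leftUnitor _).hom
  haveI : ∀ K, IsIso (a.app K) := fun K => by
    haveI := hψ K
    have : IsIso (DerivedCategory.Q.map (ψ.app K)) :=
      (DerivedCategory.isIso_Q_map_iff_quasiIso _ _).2 inferInstance
    simpa [a] using this
  haveI : IsIso a := NatIso.isIso_of_isIso_app a
  let b : P ⋙ DerivedCategory.Q ⋙ ModSite.LTensorCx E ⟶ P ⋙ ModSite.tensorCxQ E :=
    Functor.whiskerLeft P ε
  haveI : ∀ K, IsIso (b.app K) := fun K =>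
    H9Misc.TensorLinear.isIso_counit E (hP K)
  haveI : IsIso b := NatIso.isIso_of_isIso_app b
  let c : P ⋙ ModSite.tensorCxQ R ⟶ P ⋙ ModSite.tensorCxQ E :=
    Functor.whiskerLeft P (Functor.whiskerRight ((ModSite.tensorCx O).flip.map q) DerivedCategory.Q)
  haveI : ∀ K, IsIso (c.app K) := fun K => by
    haveI := quasiIso_map (hP K) q
    exact (DerivedCategory.isIso_Q_map_iff_quasiIso _ (((ModSite.tensorCx O).obj (P.obj K)).map q)).2
      inferInstance
  haveI : IsIso c := NatIso.isIso_of_isIso_app c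
  let d : P ⋙ ModSite.tensorCxQ R ⟶ ModSite.tensorCxQ R :=
    Functor.whiskerRight ψ _ ≫ (Functor.leftUnitor _).hom
  haveI : ∀ K, IsIso (d.app K) := fun K => by
    haveI := hψ K
    haveI := quasiIso_flip_map hR (ψ.app K)
    have : IsIso ((ModSite.tensorCxQ R).map (ψ.app K)) :=
      (DerivedCategory.isIso_Q_map_iff_quasiIso _ (((ModSite.tensorCx O).flip.obj R).map (ψ.app K))).2
        inferInstance
    simpa [d] using this
  haveI : IsIso d := NatIso.isIso_of_isIso_app d
  let e : DerivedCategory.Q ⋙ ModSite.LTensorCx E ≅ ModSite.tensorCxQ R :=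
    Functor.isoWhiskerRight (asIso a).symm (ModSite.LTensorCx E) ≪≫ Functor.associator _ _ _ ≪≫
      asIso b ≪≫ (asIso c).symm ≪≫ asIso d
  let s := HomologicalComplex.single (ModSite.Mod O) (ComplexShape.up ℤ) 0
  exact ⟨Functor.isoWhiskerRight (DerivedCategory.singleFunctorIsoCompQ (ModSite.Mod O) 0) _ ≪≫
    Functor.associator _ _ _ ≪≫
    Functor.isoWhiskerLeft s ((Functor.associator _ _ _).symm ≪≫
      Functor.isoWhiskerRight e (DerivedCategory.homologyFunctor (ModSite.Mod O) p) ≪≫
      Functor.associator _ _ _ ≪≫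
      Functor.isoWhiskerLeft ((ModSite.tensorCx O).flip.obj R)
        (DerivedCategory.homologyFunctorFactors (ModSite.Mod O) p)) ≪≫
    (Functor.associator _ _ _).symm ≪≫
    Functor.isoWhiskerRight (tenSingleIso R) _⟩

lemma mono_map_iff' {F G : ModSite.Mod O ⥤ ModSite.Mod O} (e : F ≅ G) {A B : ModSite.Mod O} (f : A ⟶ B) :
    Mono (F.map f) ↔ Mono (G.map f) :=
  (MorphismProperty.monomorphisms (ModSite.Mod O)).arrow_mk_iso_iff
    (((Functor.mapArrowFunctor _ _).mapIso e).app (Arrow.mk f))

variable (R : CochainComplex (ModSite.Mod O) ℤ)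

/-- A flat complex tensored with a short exact sequence of modules. -/
lemma shortExact_ten (hR : ∀ n, ModSite.IsFlat (R.X n)) {S : ShortComplex (ModSite.Mod O)}
    (hS : S.ShortExact) : (S.map (ten R)).ShortExact :=
  (HomologicalComplex.shortExact_iff_degreewise_shortExact _).2 fun n =>
    ShortComplex.shortExact_of_iso (S.mapNatIso ((tensorFlipIso O).app (R.X n)))
      ((isFlat_iff_flatObj _).1 (hR n) S hS)

/-- The long exact sequence: `H^p` stays right exact iff `H^(p+1)` stays left exact. -/
lemma epi_psi_iff_mono (hR : ∀ n, ModSite.IsFlat (R.X n)) {S : ShortComplex (ModSite.Mod O)}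
    (hS : S.ShortExact) (p : ℤ) : Epi ((psi R p).map S.g) ↔ Mono ((psi R (p + 1)).map S.f) := by
  have h := shortExact_ten R hR hS
  have hr : (ComplexShape.up ℤ).Rel p (p + 1) := rfl
  have h₁ := h.homology_exact₁ p (p + 1) hr
  have h₃ := h.homology_exact₃ p (p + 1) hr
  constructor
  · intro he
    exact h₁.mono_g (h₃.epi_f_iff.1 he)
  · intro hm
    exact h₃.epi_f (h₁.mono_g_iff.1 hm)

/-- Right exactness in degree `p` is left exactness in degree `p + 1`. -/
theorem preservesFiniteColimits_iff (hR : ∀ n, ModSite.IsFlat (R.X n)) (p : ℤ) :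
    PreservesFiniteColimits (psi R p) ↔ PreservesFiniteLimits (psi R (p + 1)) := by
  constructor
  · intro h
    refine ((Functor.preservesFiniteLimits_tfae (psi R (p + 1))).out 0 3).1 fun S hS => ?_
    haveI := hS.epi_g
    exact ⟨(shortExact_ten R hR hS).homology_exact₂ (p + 1),
      (epi_psi_iff_mono R hR hS p).1 inferInstance⟩
  · intro h
    refine ((Functor.preservesFiniteColimits_tfae (psi R p)).out 0 3).1 fun S hS => ?_
    haveI := hS.mono_f
    exact ⟨(shortExact_ten R hR hS).homology_exact₂ p, (epi_psi_iff_mono R hR hS p).2 inferInstance⟩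

/-- Left exactness in degree `p` is flatness of the opcycles. -/
theorem preservesFiniteLimits_iff (hR : ∀ n, ModSite.IsFlat (R.X n)) (p : ℤ) :
    PreservesFiniteLimits (psi R p) ↔ ModSite.IsFlat (R.opcycles p) := by
  have key : ∀ {G G' : ModSite.Mod O} (g : G ⟶ G'), Mono g →
      (Mono ((psi R p).map g) ↔ Mono (((ModSite.tensorBi O).obj (R.opcycles p)).map g)) := fun g hg => by
    haveI : Mono (((ModSite.tensorBi O).flip.map g).app (R.X (p + 1))) :=
      ((mono_map_iff' ((tensorFlipIso O).app (R.X (p + 1))) g).1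
        ((isFlat_iff_mono _).1 (hR _) g hg) :)
    exact KExact.mono_homologyMap_iff ((ModSite.tensorBi O).flip.map g) R p
  constructor
  · intro h
    refine (isFlat_iff_mono _).2 fun A B f hf => ?_
    haveI := hf
    exact (mono_map_iff' ((tensorFlipIso O).app (R.opcycles p)) f).2 ((key f hf).1 inferInstance)
  · intro h
    refine ((Functor.preservesFiniteLimits_tfae (psi R p)).out 0 3).1 fun S hS => ?_
    exact ⟨(shortExact_ten R hR hS).homology_exact₂ p, (key S.f hS.mono_f).2
      ((mono_map_iff' ((tensorFlipIso O).app (R.opcycles p)) S.f).1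
        ((isFlat_iff_mono _).1 h S.f hS.mono_f))⟩

end Groth.Agent.SiteSided
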